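import Groth.Prelude.Def_WeakSerre
import Mathlib.Algebra.Homology.ShortComplex.ExactFunctor
import Mathlib.CategoryTheory.Adjunction.FullyFaithful
import Mathlib.CategoryTheory.Adjunction.Limits

/-!
# Weak Serre subcategories in the image of an exact fully faithful left adjoint
-/

set_option autoImplicit false
set_option linter.style.haveILetI false

universe v v' u u'

open CategoryTheory CategoryTheory.Limits

namespace Groth.Agent.ProEtS.ExtLift

variable {C : Type u} [Category.{v} C] [Abelian C] {D : Type u'} [Category.{v'} D] [Abelian D]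
  {L : C ⥤ D} {R : D ⥤ C} (adj : L ⊣ R) [PreservesFiniteLimits L] [L.Additive] [R.Additive] [IsIso adj.unit]

include adj

theorem isIso_counit_of_essImage {Y : D} (h : L.essImage Y) : IsIso (adj.counit.app Y) := by
  obtain ⟨A, ⟨e⟩⟩ := h
  haveI : L.Full := adj.fullyFaithfulLOfIsIsoUnit.full
  haveI : L.Faithful := adj.fullyFaithfulLOfIsIsoUnit.faithful
  exact adj.isIso_counit_app_of_iso e.symm

/-- An extension of objects of the image lies in the image once `R` preserves the epimorphism. -/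
theorem shortExact_and_isIso_counit {S : ShortComplex D} (hS : S.ShortExact)
    (h₁ : L.essImage S.X₁) (h₃ : L.essImage S.X₃) (he : Epi (R.map S.g)) :
    (S.map R).ShortExact ∧ IsIso (adj.counit.app S.X₂) := by
  haveI : PreservesFiniteLimits R := haveI := adj.rightAdjoint_preservesLimits; inferInstance
  haveI : PreservesFiniteColimits L := haveI := adj.leftAdjoint_preservesColimits; inferInstance
  haveI := hS.mono_f
  have hR : (S.map R).ShortExact :=
    ShortComplex.ShortExact.mk' (hS.exact.map_of_mono_of_preservesKernel R (inferInstance : Mono S.f) inferInstance)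
      (inferInstanceAs (Mono (R.map S.f))) he
  refine ⟨hR, ?_⟩
  let φ : (S.map R).map L ⟶ S :=
    { τ₁ := adj.counit.app S.X₁
      τ₂ := adj.counit.app S.X₂
      τ₃ := adj.counit.app S.X₃
      comm₁₂ := (adj.counit.naturality S.f).symm
      comm₂₃ := (adj.counit.naturality S.g).symm }
  haveI : IsIso φ.τ₁ := isIso_counit_of_essImage adj h₁
  haveI : IsIso φ.τ₃ := isIso_counit_of_essImage adj h₃
  exact ShortComplex.isIso₂_of_shortExact_of_isIso₁₃ φ (hR.map_of_exact L) hS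

/-- The image of a weak Serre subcategory under `L` is a weak Serre subcategory. -/
theorem isWeakSerre_image (P : ObjectProperty C) [WSerre.IsWeakSerre P]
    (hepi : ∀ (S : ShortComplex D), S.ShortExact → L.essImage S.X₁ → Epi (R.map S.g)) :
    WSerre.IsWeakSerre (fun F : D => ∃ G : C, P G ∧ Nonempty (L.obj G ≅ F)) := by
  haveI : PreservesFiniteColimits L := haveI := adj.leftAdjoint_preservesColimits; inferInstance
  haveI : L.Full := adj.fullyFaithfulLOfIsIsoUnit.full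
  haveI : L.Faithful := adj.fullyFaithfulLOfIsIsoUnit.faithful
  refine @WSerre.IsWeakSerre.mk D _ _ _ ?_ ?_ ?_ ?_
  · obtain ⟨Z, hZ, hPZ⟩ := P.exists_prop_of_containsZero
    exact ⟨⟨L.obj Z, L.map_isZero hZ, Z, hPZ, ⟨Iso.refl _⟩⟩⟩
  · refine ⟨?_⟩
    rintro _ ⟨f, k, hk, ⟨A, hA, ⟨eA⟩⟩, B, hB, ⟨eB⟩⟩
    let φ : A ⟶ B := L.preimage (eA.hom ≫ f ≫ eB.inv)
    refine ⟨kernel φ, P.prop_kernel φ hA hB,
      ⟨PreservesKernel.iso L φ ≪≫ kernel.mapIso (L.map φ) f eA eB (by simp [φ]) ≪≫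
        IsLimit.conePointUniqueUpToIso (limit.isLimit _) hk⟩⟩
  · refine ⟨?_⟩
    rintro _ ⟨f, k, hk, ⟨A, hA, ⟨eA⟩⟩, B, hB, ⟨eB⟩⟩
    let φ : A ⟶ B := L.preimage (eA.hom ≫ f ≫ eB.inv)
    refine ⟨cokernel φ, P.prop_cokernel φ hA hB,
      ⟨PreservesCokernel.iso L φ ≪≫ cokernel.mapIso (L.map φ) f eA eB (by simp [φ]) ≪≫
        IsColimit.coconePointUniqueUpToIso (colimit.isColimit _) hk⟩⟩
  · refine ⟨?_⟩
    rintro S hS ⟨A, hA, ⟨eA⟩⟩ ⟨B, hB, ⟨eB⟩⟩
    obtain ⟨hR, hiso⟩ := shortExact_and_isIso_counit adj hS ⟨A, ⟨eA⟩⟩ ⟨B, ⟨eB⟩⟩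
      (hepi S hS ⟨A, ⟨eA⟩⟩)
    refine ⟨R.obj S.X₂, ?_, ⟨asIso (adj.counit.app S.X₂)⟩⟩
    haveI : ∀ Y, IsIso (adj.unit.app Y) := fun Y => inferInstance
    have h₁ : P (S.map R).X₁ := P.prop_of_iso (asIso (adj.unit.app A) ≪≫ R.mapIso eA) hA
    have h₃ : P (S.map R).X₃ := P.prop_of_iso (asIso (adj.unit.app B) ≪≫ R.mapIso eB) hB
    exact P.prop_X₂_of_shortExact hR h₁ h₃

end Groth.Agent.ProEtS.ExtLift
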