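import Groth.Agent.ProEtS.ExtLift.Lift
import Mathlib.Algebra.Homology.ShortComplex.ExactFunctor
import Mathlib.CategoryTheory.Sites.EpiMono
import Mathlib.CategoryTheory.Sites.Pullback

/-!
# `ε_*` preserves epimorphisms whose kernel comes from the étale site
-/

set_option autoImplicit false
set_option backward.isDefEq.respectTransparency.types false

universe u

open CategoryTheory CategoryTheory.Limits AlgebraicGeometry Opposite

namespace Groth.Agent.ProEtS.ExtLift

open Groth.Agent.ProEtS EpsElem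

local notation "ε" => _root_.ProEtS.eps

variable {X : Scheme.{u}}

/-- Sections of the target lift étale locally. -/
theorem imageSieve_mem {A : EtCoh.Ab X} {K G T : _root_.ProEtS.AbP X} (e : shf A ≅ K) (ι : K ⟶ G) (p : G ⟶ T)
    (w : ι ≫ p = 0) (hS : (ShortComplex.mk ι p w).Exact) [Mono ι] [Epi p] {U : X.Etale}
    (b : T.obj.obj (op ((ε X).obj U))) :
    Presheaf.imageSieve (Functor.whiskerLeft (ε X).op p.hom) b ∈ X.smallEtaleTopology U := by
  rw [show X.smallEtaleTopology =
    (X.smallPretopology (P := EtCoh.etaleMP) (Q := EtCoh.etaleMP)).toGrothendieck from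
    Scheme.smallGrothendieckTopology_eq_toGrothendieck_smallPretopology X le_rfl]
  refine (Scheme.mem_toGrothendieck_smallPretopology U _).2 fun x => ?_
  obtain ⟨O, hO, hx, -⟩ := exists_isAffineOpen_mem_and_subset (x := x) (U := ⊤) trivial
  have : Etale U.hom := U.prop
  let U' : X.Etale := Scheme.Etale.mk (O.ι ≫ U.hom)
  let j : U' ⟶ U := MorphismProperty.Over.homMk O.ι rfl trivial
  have : IsAffine U'.left := hO
  have w' : (e.hom ≫ ι) ≫ p = 0 := by rw [Category.assoc, w, comp_zero]
  have hS' : (ShortComplex.mk (e.hom ≫ ι) p w').Exact :=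
    ShortComplex.exact_of_iso (ShortComplex.isoMk (S₁ := ShortComplex.mk ι p w)
      (S₂ := ShortComplex.mk (e.hom ≫ ι) p w') e.symm (Iso.refl _) (Iso.refl _)) hS
  obtain ⟨Y, q, hq, g, hg⟩ := exists_lift_affine (e.hom ≫ ι) p w' hS' U' (T.obj.map ((ε X).map j).op b)
  obtain ⟨y, hy⟩ := hq.1 (⟨x, hx⟩ : U'.left)
  refine ⟨Y, q ≫ j, y, ⟨g, ?_⟩, etale_left (q ≫ j), ?_⟩
  · show p.hom.app (op ((ε X).obj Y)) g = T.obj.map ((ε X).map (q ≫ j)).op b
    rw [Functor.map_comp, map_comp_apply]
    exact hg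
  · show (q.left ≫ j.left) y = x
    rw [Scheme.Hom.comp_apply, hy]
    rfl

variable [_root_.ProEtS.EpsCont X]

/-- The direct image of such an epimorphism is an epimorphism. -/
theorem epi_epsPush_map {S : ShortComplex (_root_.ProEtS.AbP X)} (hS : S.ShortExact)
    (hK : (_root_.ProEtS.epsPull X).essImage S.X₁) :
    Epi ((_root_.ProEtS.epsPush X).map S.g) := by
  obtain ⟨A, ⟨e₀⟩⟩ := hK
  let e : shf A ≅ S.X₁ := ((Functor.sheafPullbackConstruction.sheafPullbackIso (ε X) AddCommGrpCat.{u + 1}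
    X.smallEtaleTopology (Scheme.ProEt.topology X)).app A).symm ≪≫ e₀
  haveI := hS.mono_f
  haveI := hS.epi_g
  haveI : Sheaf.IsLocallySurjective ((_root_.ProEtS.epsPush X).map S.g) :=
    ⟨fun b => imageSieve_mem e S.f S.g S.zero hS.exact b⟩
  exact (Sheaf.isLocallySurjective_iff_epi' AddCommGrpCat.{u + 1} _).1 inferInstance

end Groth.Agent.ProEtS.ExtLift
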