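import Groth.Agent.ProEtS.ExtLift.System
import Groth.Agent.ProEtW.WEFactor

/-!
# Limits of affine étale objects cover the pro-étale site
-/

set_option autoImplicit false

universe u

open CategoryTheory CategoryTheory.Limits AlgebraicGeometry Opposite

noncomputable section

namespace Groth.Agent.ProEtS.ExtLift

variable {X : Scheme.{u}}

/-- An object of the pro-étale site presented as a limit of affine étale objects. -/
structure AffSys (X : Scheme.{u}) where
  I : Type u
  [cat : SmallCategory I]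
  [cofiltered : IsCofiltered I]
  Y : I ⥤ X.Etale
  isAffine_Y : ∀ i, IsAffine (Y.obj i).left
  c : Cone (Y ⋙ _root_.ProEtS.eps X)
  isLimit : IsLimit ((toSch X).mapCone c)
  isAffine_pt : IsAffine c.pt.left

attribute [instance] AffSys.cat AffSys.cofiltered

set_option backward.isDefEq.respectTransparency.types false in
/-- An ind-étale algebra over the ring of an affine étale object gives a limit presentation. -/
theorem exists_affSys {R : CommRingCat.{u}} (s : Spec R ⟶ X) [Etale s] (D : Type u) [CommRing D]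
    [Algebra R D] (hD : Groth.Agent.IndAlg.Fac (Groth.Agent.IndAlg.Etale.Et R) D) :
    ∃ (S : AffSys X) (e : S.c.pt.left ≅ Spec (CommRingCat.of D)),
      e.hom ≫ Spec.map (CommRingCat.ofHom (algebraMap R D)) ≫ s = S.c.pt.hom := by
  obtain ⟨J, _, _, Dg, cc, hcc, hQ, ⟨e⟩⟩ := Groth.Agent.IndAlg.Etale.isInd_of_fac hD
  have hE : ∀ j : Jᵒᵖ, Etale (Spec.map (Dg.obj j.unop).hom) := fun j => by
    let := (Dg.obj j.unop).hom.hom.toAlgebra
    exact (HasRingHomProperty.Spec_iff (P := @Etale)).2 (RingHom.etale_algebraMap.2 (hQ j.unop))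
  let Yo : Jᵒᵖ → X.Etale := fun j =>
    have := hE j
    Scheme.Etale.mk (Spec.map (Dg.obj j.unop).hom ≫ s)
  have hw : ∀ {i j : Jᵒᵖ} (m : i ⟶ j),
      Spec.map (Dg.map m.unop).right ≫ Spec.map (Dg.obj j.unop).hom = Spec.map (Dg.obj i.unop).hom := by
    intro i j m
    rw [← Spec.map_comp, Under.w]
  let Y : Jᵒᵖ ⥤ X.Etale :=
    { obj := Yo
      map := fun {i j} m => MorphismProperty.Over.homMk (Spec.map (Dg.map m.unop).right)
        ((Category.assoc _ _ _).symm.trans (congrArg (· ≫ s) (hw m)) :) trivial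
      map_id := fun j => MorphismProperty.Over.Hom.ext
        ((congrArg (fun g => Spec.map (CommaMorphism.right g)) (Dg.map_id _)).trans (Spec.map_id _) :)
      map_comp := fun {i j k} m m' => MorphismProperty.Over.Hom.ext
        ((congrArg (fun g => Spec.map (CommaMorphism.right g)) (Dg.map_comp _ _)).trans
          (Spec.map_comp _ _) :) }
  have hcW : IsLimit (Scheme.Spec.mapCone ((Under.forget _).mapCocone cc).op) :=
    isLimitOfPreserves Scheme.Spec (isColimitOfPreserves (Under.forget _) hcc).op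
  have := (Affine.weaklyEtale_SpecMap_iff R D).2 (Groth.Agent.IndAlg.Etale.weaklyEtale hD)
  have hptm : Spec.map cc.pt.hom = Spec.map e.inv.right ≫ Spec.map (CommRingCat.ofHom (algebraMap R D)) := by
    rw [← Spec.map_comp]
    exact congrArg Spec.map (Under.w e.inv).symm
  have hiso : IsIso e.inv.right := inferInstanceAs (IsIso ((Under.forget _).mapIso e).inv)
  have hwE : WeaklyEtale (Spec.map cc.pt.hom) := by rw [hptm]; infer_instance
  let W : X.ProEt := Scheme.ProEt.mk (Spec.map cc.pt.hom ≫ s)
  have hπw : ∀ j : Jᵒᵖ,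
      Spec.map (cc.ι.app j.unop).right ≫ Spec.map (Dg.obj j.unop).hom = Spec.map cc.pt.hom := fun j => by
    rw [← Spec.map_comp, Under.w (cc.ι.app j.unop)]
    rfl
  let c : Cone (Y ⋙ _root_.ProEtS.eps X) :=
    { pt := W
      π :=
        { app := fun j => MorphismProperty.Over.homMk (Spec.map (cc.ι.app j.unop).right)
            ((Category.assoc _ _ _).symm.trans (congrArg (· ≫ s) (hπw j)) :) trivial
          naturality := fun i j m => MorphismProperty.Over.Hom.ext
            ((Category.id_comp _).trans ((congrArg (fun g => Spec.map (CommaMorphism.right g))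
              (cc.w m.unop).symm).trans (Spec.map_comp _ _)) :) } }
  refine ⟨{ I := Jᵒᵖ
            Y := Y
            isAffine_Y := fun j => inferInstanceAs (IsAffine (Spec _))
            c := c
            isLimit :=
              { lift := fun t => hcW.lift ⟨t.pt,
                  { app := fun j => t.π.app j, naturality := fun i j m => t.π.naturality m }⟩
                fac := fun t j => hcW.fac _ j
                uniq := fun t m hm => hcW.uniq _ m hm }
            isAffine_pt := inferInstanceAs (IsAffine (Spec _)) },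
    (Scheme.Spec.mapIso ((Under.forget _).mapIso e).op).symm, ?_⟩
  show Spec.map e.inv.right ≫ Spec.map (CommRingCat.ofHom (algebraMap R D)) ≫ s = Spec.map cc.pt.hom ≫ s
  rw [← Category.assoc, ← hptm]

set_option backward.isDefEq.respectTransparency.types false in
/-- Every object is covered by limits of affine étale objects. -/
theorem exists_affSys_cover (W : X.ProEt) :
    ∃ (ι : Type u) (S : ι → AffSys X) (g : ∀ k, (S k).c.pt ⟶ W),
      Sieve.ofArrows (fun k => (S k).c.pt) g ∈ Scheme.ProEt.topology X W := by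
  have hch : ∀ x : W.left, ∃ O : W.left.Opens, ∃ U : X.Opens,
      IsAffineOpen O ∧ IsAffineOpen U ∧ x ∈ O ∧ O ≤ W.hom ⁻¹ᵁ U := fun x => by
    obtain ⟨U, hU, hxU, -⟩ := exists_isAffineOpen_mem_and_subset (x := W.hom x) (U := ⊤) trivial
    obtain ⟨O, hO, hxO, hOU⟩ := exists_isAffineOpen_mem_and_subset (x := x) (U := W.hom ⁻¹ᵁ U) hxU
    exact ⟨O, U, hO, hU, hxO, hOU⟩
  choose O U hO hU hx hOU using hch
  have : ∀ x, IsAffine (U x : Scheme.{u}) := hU
  have : ∀ x, IsAffine (O x : Scheme.{u}) := hO
  let f : ∀ x, (O x : Scheme.{u}) ⟶ (U x : Scheme.{u}) := fun x => W.hom.resLE (U x) (O x) (hOU x)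
  have hf : ∀ x, f x ≫ (U x).ι = (O x).ι ≫ W.hom := fun x => Scheme.Hom.resLE_comp_ι _ _
  have hwf : ∀ x, WeaklyEtale (f x) := fun x => by
    have : WeaklyEtale W.hom := W.prop
    have : WeaklyEtale (f x ≫ (U x).ι) := by rw [hf x]; infer_instance
    exact WeaklyEtale.of_comp _ (U x).ι
  have hex : ∀ x, ∃ (S : AffSys X) (p : S.c.pt.left ⟶ (O x : Scheme.{u})),
      Surjective p ∧ WeaklyEtale p ∧ QuasiCompact p ∧ (p ≫ (O x).ι) ≫ W.hom = S.c.pt.hom := by
    intro x
    let A := ↥Γ((U x : Scheme.{u}), ⊤)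
    let B := ↥Γ((O x : Scheme.{u}), ⊤)
    let : Algebra A B := (f x).appTop.hom.toAlgebra
    have hAB : Spec.map (CommRingCat.ofHom (algebraMap A B)) ≫ (U x : Scheme.{u}).isoSpec.inv =
        (O x : Scheme.{u}).isoSpec.inv ≫ f x := Scheme.isoSpec_inv_naturality (f x)
    have hAB' : Spec.map (CommRingCat.ofHom (algebraMap A B)) =
        ((O x : Scheme.{u}).isoSpec.inv ≫ f x) ≫ (U x : Scheme.{u}).isoSpec.hom := by
      rw [← hAB, Category.assoc, Iso.inv_hom_id, Category.comp_id]
    have := hwf x
    have hwAB : Algebra.WeaklyEtale A B := (Affine.weaklyEtale_SpecMap_iff A B).1 (by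
      rw [hAB']; infer_instance)
    obtain ⟨D, _, _, _, _, hff, hwe, hfac⟩ := Groth.Agent.ProEtW.WEFactor.exists_ff_indEtale A B
    let s : Spec (CommRingCat.of A) ⟶ X := (U x : Scheme.{u}).isoSpec.inv ≫ (U x).ι
    have : Etale s := inferInstanceAs (Etale ((U x : Scheme.{u}).isoSpec.inv ≫ (U x).ι))
    obtain ⟨S, e, he⟩ := exists_affSys (X := X) s D hfac
    have := (Affine.weaklyEtale_SpecMap_iff B D).2 hwe
    have : Surjective (Spec.map (CommRingCat.ofHom (algebraMap B D))) :=
      ⟨PrimeSpectrum.comap_surjective_of_faithfullyFlat (A := B) (B := D)⟩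
    refine ⟨S, e.hom ≫ Spec.map (CommRingCat.ofHom (algebraMap B D)) ≫ (O x : Scheme.{u}).isoSpec.inv,
      inferInstance, inferInstance, inferInstance, ?_⟩
    rw [← he, IsScalarTower.algebraMap_eq A B D, CommRingCat.ofHom_comp, Spec.map_comp]
    simp only [Category.assoc, s]
    rw [← hf x, reassoc_of% hAB]
  choose S p hs hw hq hp using hex
  let g : ∀ x, (S x).c.pt ⟶ W := fun x => MorphismProperty.Over.homMk (p x ≫ (O x).ι) (hp x) trivial
  refine ⟨W.left, S, g, ?_⟩
  refine Covers.mem_of_refine _ O (fun x => ⟨x, hx x⟩) (fun x => (S x).c.pt.left) p fun x => ?_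
  exact ⟨(S x).c.pt, g x, 𝟙 _, Sieve.ofArrows_mk _ _ x, Category.id_comp _⟩

end Groth.Agent.ProEtS.ExtLift
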