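import Groth.Agent.ProEtS.EpsUnit
import Groth.Agent.ProEtS.Site
import Groth.Agent.S0717
import Mathlib.CategoryTheory.Functor.Flat
import Mathlib.CategoryTheory.Functor.KanExtension.Preserves
import Mathlib.CategoryTheory.Abelian.GrothendieckAxioms.Basic
import Mathlib.Algebra.Category.Grp.AB

/-!
# The pullback of abelian sheaves from the étale to the pro-étale site is exact
-/

universe u

open CategoryTheory CategoryTheory.Limits AlgebraicGeometry Opposite

namespace Groth.Agent.ProEtS.ExtLift

instance instHasColimitsBigAb : HasColimitsOfSize.{u, u + 1} AddCommGrpCat.{u + 1} :=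
  hasColimitsOfSizeShrink.{u, u + 1, u + 1, u + 1} _

instance instAB5BigAb : AB5OfSize.{u, u + 1} AddCommGrpCat.{u + 1} :=
  AB5OfSize_of_univLE.{u, u + 1, u + 1, u + 1} _

instance representablyFlat_eps_ab (X : Scheme.{u}) : RepresentablyFlat (_root_.ProEtS.eps X) :=
  flat_of_preservesFiniteLimits _

set_option backward.defeqAttrib.useBackward true in
set_option backward.isDefEq.respectTransparency false in
/-- The left Kan extension along `ε` is left exact. -/
instance preservesFiniteLimits_lan_eps_ab (X : Scheme.{u}) :
    PreservesFiniteLimits ((_root_.ProEtS.eps X).op.lan : (X.Etaleᵒᵖ ⥤ AddCommGrpCat.{u + 1}) ⥤ _) := by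
  let G := _root_.ProEtS.eps X
  constructor
  intro J _ _
  refine preservesLimitsOfShape_of_evaluation _ J fun K => ?_
  haveI : IsFiltered (CostructuredArrow G.op K) :=
    IsFiltered.of_equivalence (structuredArrowOpEquivalence G (unop K))
  let e : G.op.lan ⋙ (evaluation _ (AddCommGrpCat.{u + 1})).obj K ≅
      (Functor.whiskeringLeft _ _ _).obj (CostructuredArrow.proj G.op K) ⋙ colim :=
    NatIso.ofComponents (fun F =>
      IsColimit.coconePointUniqueUpToIso
        (Functor.isPointwiseLeftKanExtensionLeftKanExtensionUnit G.op F K) (colimit.isColimit _))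
      fun {F₁ F₂} φ => by
        apply (Functor.isPointwiseLeftKanExtensionLeftKanExtensionUnit G.op F₁ K).hom_ext
        intro T
        have h₁ := fun (F : X.Etaleᵒᵖ ⥤ AddCommGrpCat.{u + 1}) => IsColimit.comp_coconePointUniqueUpToIso_hom
          (Functor.isPointwiseLeftKanExtensionLeftKanExtensionUnit G.op F K) (colimit.isColimit _) T
        have h₂ := congr_app (G.op.lanUnit.naturality φ) T.left
        dsimp at h₁ h₂ ⊢
        simp only [Category.assoc] at h₁ ⊢
        simp only [Functor.lan, Functor.lanUnit] at h₂ ⊢
        rw [reassoc_of% h₁, NatTrans.naturality_assoc, ← reassoc_of% h₂, h₁, ι_colimMap,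
          Functor.whiskerLeft_app]
        rfl
  exact preservesLimitsOfShape_of_natIso e.symm

instance preservesFiniteLimits_epsPull (X : Scheme.{u}) [_root_.ProEtS.EpsCont X] :
    PreservesFiniteLimits (_root_.ProEtS.epsPull X) :=
  Functor.sheafPullbackConstruction.preservesFiniteLimits _ _ _ _

instance isIso_unit_epsAdj (X : Scheme.{u}) [_root_.ProEtS.EpsCont X] :
    IsIso (_root_.ProEtS.epsAdj X).unit :=
  have : ∀ F, IsIso ((_root_.ProEtS.epsAdj X).unit.app F) := fun F => S0717.result X F
  NatIso.isIso_of_isIso_app _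

end Groth.Agent.ProEtS.ExtLift
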