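import Groth.Agent.ProEtS.Site
import Groth.Agent.ProEtS.EpsElem

/-!
# Sections of abelian sheaves along a single covering morphism
-/

set_option autoImplicit false

universe u

open CategoryTheory CategoryTheory.Limits AlgebraicGeometry Opposite

namespace Groth.Agent.ProEtS.ExtLift

variable {X : Scheme.{u}} (G : _root_.ProEtS.AbP X) {M V : X.ProEt} (f : M ⟶ V)

set_option backward.isDefEq.respectTransparency.types false in
theorem singleton_mem [IsAffine M.left] [IsAffine V.left] [Surjective f.left] :
    Sieve.ofArrows (fun _ : PUnit.{u + 1} => M) (fun _ => f) ∈ Scheme.ProEt.topology X V := by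
  have : WeaklyEtale f.left := EpsElem.weaklyEtale_left f
  refine Site.generate_mem _ _ ?_
  rw [Presieve.ofArrows_pUnit]
  exact Scheme.Hom.singleton_mem_propQCPrecoverage (inferInstance : WeaklyEtale f.left)

set_option backward.isDefEq.respectTransparency.types false in
/-- A section agreeing on the overlaps of a covering morphism descends uniquely. -/
theorem existsUnique_glue [IsAffine M.left] [IsAffine V.left] [Surjective f.left]
    (x : G.obj.obj (op M))
    (hx : ∀ {Z : X.ProEt} (m₁ m₂ : Z ⟶ M), m₁ ≫ f = m₂ ≫ f →
      G.obj.map m₁.op x = G.obj.map m₂.op x) :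
    ∃! y : G.obj.obj (op V), G.obj.map f.op y = x := by
  let F := (sheafCompose (Scheme.ProEt.topology X) (forget AddCommGrpCat.{u + 1})).obj G
  have h : Presieve.IsSheafFor F.obj (Presieve.singleton f) := by
    rw [← Presieve.ofArrows_pUnit.{u} f]
    exact (Presieve.isSheafFor_iff_generate _).2
      (((isSheaf_iff_isSheaf_of_type _ _).1 F.property) _ (singleton_mem f))
  exact Presieve.isSheafFor_singleton.1 h x fun m₁ m₂ w => hx m₁ m₂ w

theorem eq_of_map_eq [IsAffine M.left] [IsAffine V.left] [Surjective f.left]
    {y y' : G.obj.obj (op V)} (h : G.obj.map f.op y = G.obj.map f.op y') : y = y' :=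
  (existsUnique_glue G f (G.obj.map f.op y) fun m₁ m₂ w =>
    (EpsElem.map_comp_apply G.obj m₁ f y).symm.trans
      ((congrArg (fun k => G.obj.map k.op y) w).trans (EpsElem.map_comp_apply G.obj m₂ f y))).unique rfl h.symm

end Groth.Agent.ProEtS.ExtLift
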