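import Mathlib.CategoryTheory.Limits.Shapes.Pullback.IsPullback.Basic
import Mathlib.CategoryTheory.Limits.Shapes.Pullback.HasPullback
import Mathlib.CategoryTheory.Limits.Preserves.Shapes.Pullbacks
import Mathlib.CategoryTheory.Filtered.Basic

/-!
# Fibre products of systems over a fixed object
-/

universe v v' w u u'

open CategoryTheory CategoryTheory.Limits

namespace Groth.Agent.ProEtS.ExtLift

variable {C : Type u} [Category.{v} C] [HasPullbacks C] {I : Type w} [Category* I]
  {A B : I ⥤ C} {U : C} (a : ∀ i, A.obj i ⟶ U) (b : ∀ i, B.obj i ⟶ U)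
  (ha : ∀ ⦃i j⦄ (m : i ⟶ j), A.map m ≫ a j = a i) (hb : ∀ ⦃i j⦄ (m : i ⟶ j), B.map m ≫ b j = b i)

/-- The system of fibre products. -/
noncomputable abbrev pbSys : I ⥤ C where
  obj i := pullback (a i) (b i)
  map {i j} m := pullback.lift (pullback.fst _ _ ≫ A.map m) (pullback.snd _ _ ≫ B.map m)
    (by rw [Category.assoc, Category.assoc, ha, hb, pullback.condition])
  map_id i := by ext <;> simp
  map_comp f g := by ext <;> simp [pullback.lift_fst, pullback.lift_snd, pullback.lift_fst_assoc, pullback.lift_snd_assoc]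

theorem pbSys_map_fst {i j : I} (m : i ⟶ j) :
    (pbSys a b ha hb).map m ≫ pullback.fst (a j) (b j) = pullback.fst (a i) (b i) ≫ A.map m :=
  pullback.lift_fst _ _ _

theorem pbSys_map_snd {i j : I} (m : i ⟶ j) :
    (pbSys a b ha hb).map m ≫ pullback.snd (a j) (b j) = pullback.snd (a i) (b i) ≫ B.map m :=
  pullback.lift_snd _ _ _

variable (cA : Cone A) (cB : Cone B) (rA : cA.pt ⟶ U) (rB : cB.pt ⟶ U)
  (hA : ∀ i, cA.π.app i ≫ a i = rA) (hB : ∀ i, cB.π.app i ≫ b i = rB)

/-- The projections of the limit cone. -/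
noncomputable def pbπ (i : I) : pullback rA rB ⟶ pullback (a i) (b i) :=
  pullback.lift (pullback.fst _ _ ≫ cA.π.app i) (pullback.snd _ _ ≫ cB.π.app i)
    (by rw [Category.assoc, Category.assoc, hA, hB, pullback.condition])

theorem pbπ_map {i j : I} (m : i ⟶ j) :
    pbπ a b cA cB rA rB hA hB i ≫ (pbSys a b ha hb).map m = pbπ a b cA cB rA rB hA hB j := by
  apply pullback.hom_ext
  · rw [Category.assoc]
    erw [pbSys_map_fst a b ha hb m]
    unfold pbπ
    rw [pullback.lift_fst_assoc, pullback.lift_fst, Category.assoc]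
    exact congrArg (pullback.fst rA rB ≫ ·) (cA.w m)
  · rw [Category.assoc]
    erw [pbSys_map_snd a b ha hb m]
    unfold pbπ
    rw [pullback.lift_snd_assoc, pullback.lift_snd, Category.assoc]
    exact congrArg (pullback.snd rA rB ≫ ·) (cB.w m)

/-- The cone on the system of fibre products. -/
noncomputable abbrev pbCone : Cone (pbSys a b ha hb) where
  pt := pullback rA rB
  π :=
    { app := fun i => pbπ a b cA cB rA rB hA hB i
      naturality := fun _ _ m =>
        (Category.id_comp _).trans (pbπ_map a b ha hb cA cB rA rB hA hB m).symm }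

theorem pbCone_fst (i : I) : (pbCone a b ha hb cA cB rA rB hA hB).π.app i ≫ pullback.fst (a i) (b i) =
    pullback.fst rA rB ≫ cA.π.app i :=
  pullback.lift_fst _ _ _

theorem pbCone_snd (i : I) : (pbCone a b ha hb cA cB rA rB hA hB).π.app i ≫ pullback.snd (a i) (b i) =
    pullback.snd rA rB ≫ cB.π.app i :=
  pullback.lift_snd _ _ _

/-- A functor preserving fibre products sends fibre products of limits to limits. -/
theorem nonempty_isLimit_pbCone [IsCofiltered I] {E : Type u'} [Category.{v'} E] (F : C ⥤ E)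
    [PreservesLimitsOfShape WalkingCospan F]
    (lA : IsLimit (F.mapCone cA)) (lB : IsLimit (F.mapCone cB)) :
    Nonempty (IsLimit (F.mapCone (pbCone a b ha hb cA cB rA rB hA hB))) := by
  obtain ⟨i₀⟩ := IsCofiltered.nonempty (C := I)
  have hP : IsPullback (F.map (pullback.fst rA rB)) (F.map (pullback.snd rA rB)) (F.map rA) (F.map rB) :=
    (IsPullback.of_hasPullback rA rB).map F
  have hi : ∀ i, IsPullback (F.map (pullback.fst (a i) (b i))) (F.map (pullback.snd (a i) (b i)))
      (F.map (a i)) (F.map (b i)) := fun i => (IsPullback.of_hasPullback (a i) (b i)).map F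
  let sA : Cone (pbSys a b ha hb ⋙ F) → Cone (A ⋙ F) := fun s =>
    { pt := s.pt
      π :=
        { app := fun i => s.π.app i ≫ F.map (pullback.fst (a i) (b i))
          naturality := fun i j m => by
            dsimp
            rw [Category.id_comp, ← s.w m, Category.assoc, Category.assoc, Functor.comp_map, ← F.map_comp,
              ← F.map_comp, pbSys_map_fst] } }
  let sB : Cone (pbSys a b ha hb ⋙ F) → Cone (B ⋙ F) := fun s =>
    { pt := s.pt
      π :=
        { app := fun i => s.π.app i ≫ F.map (pullback.snd (a i) (b i))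
          naturality := fun i j m => by
            dsimp
            rw [Category.id_comp, ← s.w m, Category.assoc, Category.assoc, Functor.comp_map, ← F.map_comp,
              ← F.map_comp, pbSys_map_snd] } }
  have hw : ∀ s, lA.lift (sA s) ≫ F.map rA = lB.lift (sB s) ≫ F.map rB := fun s => by
    rw [← hA i₀, ← hB i₀, F.map_comp, F.map_comp, ← Category.assoc, ← Category.assoc]
    erw [lA.fac (sA s) i₀, lB.fac (sB s) i₀]
    simp only [sA, sB, Category.assoc]
    exact congrArg (s.π.app i₀ ≫ ·) (hi i₀).w
  refine ⟨{ lift := fun s => hP.lift (lA.lift (sA s)) (lB.lift (sB s)) (hw s)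
            fac := fun s i => ?_
            uniq := fun s m hm => ?_ }⟩
  · apply (hi i).hom_ext
    · change (_ ≫ F.map (pbπ a b cA cB rA rB hA hB i)) ≫ _ = _
      rw [Category.assoc, ← F.map_comp, pbCone_fst a b ha hb cA cB rA rB hA hB, F.map_comp, hP.lift_fst_assoc]
      exact lA.fac (sA s) i
    · change (_ ≫ F.map (pbπ a b cA cB rA rB hA hB i)) ≫ _ = _
      rw [Category.assoc, ← F.map_comp, pbCone_snd a b ha hb cA cB rA rB hA hB, F.map_comp, hP.lift_snd_assoc]
      exact lB.fac (sB s) i
  · apply hP.hom_ext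
    · rw [hP.lift_fst]
      refine lA.uniq (sA s) _ fun i => ?_
      change (_ ≫ _) ≫ F.map (cA.π.app i) = s.π.app i ≫ F.map _
      rw [Category.assoc, ← F.map_comp, ← pbCone_fst a b ha hb cA cB rA rB hA hB i, F.map_comp,
        ← Category.assoc, ← hm i]
      rfl
    · rw [hP.lift_snd]
      refine lB.uniq (sB s) _ fun i => ?_
      change (_ ≫ _) ≫ F.map (cB.π.app i) = s.π.app i ≫ F.map _
      rw [Category.assoc, ← F.map_comp, ← pbCone_snd a b ha hb cA cB rA rB hA hB i, F.map_comp,
        ← Category.assoc, ← hm i]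
      rfl

end Groth.Agent.ProEtS.ExtLift
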