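import Groth.Agent.ProEtS.ExtLift.System
import Groth.Agent.ProEtS.ExtLift.PullSys
import Groth.Agent.ProEtS.ExtLift.Glue
import Groth.Agent.ProEtS.SectLim
import Groth.Agent.ProEtS.PushExact
import Mathlib.Algebra.Homology.ShortComplex.Ab

/-!
# Sections of a quotient by a sheaf from the étale site lift étale locally
-/

set_option autoImplicit false
set_option linter.style.haveILetI false
set_option backward.isDefEq.respectTransparency.types false

universe u

open CategoryTheory CategoryTheory.Limits AlgebraicGeometry Opposite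

noncomputable section

namespace Groth.Agent.ProEtS.ExtLift

open Groth.Agent.ProEtS EpsElem

local notation "ε" => _root_.ProEtS.eps

variable {X : Scheme.{u}}

instance preservesCospan_toSch (X : Scheme.{u}) :
    PreservesLimitsOfShape WalkingCospan (toSch X) := inferInstance

theorem isAffine_pullback {V V' B : X.ProEt} (f : V ⟶ B) (g : V' ⟶ B) [IsAffine V.left] [IsAffine V'.left]
    [IsAffine B.left] : IsAffine (pullback f g).left := by
  have h : IsPullback ((toSch X).map (pullback.fst f g)) ((toSch X).map (pullback.snd f g))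
      ((toSch X).map f) ((toSch X).map g) := (IsPullback.of_hasPullback f g).map (toSch X)
  haveI : IsAffine ((toSch X).obj V) := ‹IsAffine V.left›
  haveI : IsAffine ((toSch X).obj V') := ‹IsAffine V'.left›
  haveI : IsAffine ((toSch X).obj B) := ‹IsAffine B.left›
  exact IsAffine.of_isIso h.isoPullback.hom

theorem surjective_pullback_snd {V V' B : X.ProEt} (f : V ⟶ B) (g : V' ⟶ B) [Surjective f.left] :
    Surjective (pullback.snd f g).left :=
  MorphismProperty.of_isPullback (P := @Surjective)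
    ((IsPullback.of_hasPullback f g).map (toSch X)) ‹Surjective f.left›

theorem exists_of_app_eq_zero {K G T : _root_.ProEtS.AbP X} {ι : K ⟶ G} {p : G ⟶ T} {w : ι ≫ p = 0}
    (hS : (ShortComplex.mk ι p w).Exact) [Mono ι] (V : X.ProEt) :
    Function.Injective (ι.hom.app (op V)) ∧
      ∀ x : G.obj.obj (op V), p.hom.app (op V) x = 0 → ∃ c, ι.hom.app (op V) c = x := by
  let Φ := sheafToPresheaf (Scheme.ProEt.topology X) AddCommGrpCat.{u + 1} ⋙
    (evaluation _ AddCommGrpCat.{u + 1}).obj (op V)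
  haveI : PreservesFiniteLimits Φ := inferInstance
  haveI : Φ.PreservesZeroMorphisms := inferInstance
  have hm : Mono (Φ.map ι) := Φ.map_mono ι
  have he := hS.map_of_mono_of_preservesKernel Φ (inferInstance : Mono ι) inferInstance
  exact ⟨(AddCommGrpCat.mono_iff_injective _).1 hm, (ShortComplex.ab_exact_iff _).1 he⟩

theorem exists_lift_affine {A : EtCoh.Ab X} {G T : _root_.ProEtS.AbP X} (ι : shf A ⟶ G) (p : G ⟶ T)
    (w : ι ≫ p = 0) (hS : (ShortComplex.mk ι p w).Exact) [Mono ι] [Epi p] (U : X.Etale) [IsAffine U.left]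
    (b : T.obj.obj (op ((ε X).obj U))) :
    ∃ (Y : X.Etale) (q : Y ⟶ U), Surjective q.left ∧ ∃ g : G.obj.obj (op ((ε X).obj Y)),
      p.hom.app _ g = T.obj.map ((ε X).map q).op b := by
  obtain ⟨S⟩ := nonempty_system U
  have nG : ∀ {V V' : X.ProEt} (m : V' ⟶ V) (x : (shf A).obj.obj (op V)),
      ι.hom.app (op V') ((shf A).obj.map m.op x) = G.obj.map m.op (ι.hom.app (op V) x) :=
    fun m x => NatTrans.naturality_apply ι.hom m.op x
  have nT : ∀ {V V' : X.ProEt} (m : V' ⟶ V) (x : G.obj.obj (op V)),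
      p.hom.app (op V') (G.obj.map m.op x) = T.obj.map m.op (p.hom.app (op V) x) :=
    fun m x => NatTrans.naturality_apply p.hom m.op x
  haveI := S.isAffine_W
  haveI := S.surj
  haveI hU : IsAffine ((ε X).obj U).left := ‹IsAffine U.left›
  obtain ⟨g, hg⟩ := PushExact.surjective_app p S.c.pt S.wc (T.obj.map S.r.op b)
  let D := S.Y ⋙ ε X
  let a : ∀ i, D.obj i ⟶ (ε X).obj U := fun i => (ε X).map (S.q i)
  have ha : ∀ ⦃i j : S.I⦄ (m : i ⟶ j), D.map m ≫ a j = a i := fun i j m => by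
    show (ε X).map (S.Y.map m) ≫ (ε X).map (S.q j) = (ε X).map (S.q i)
    rw [← Functor.map_comp, S.q_nat m]
  haveI hD : ∀ i, IsAffine (D.obj i).left := fun i => S.isAffine_Y i
  -- the double system
  let P2 := pbSys a a ha ha
  let C2 := pbCone a a ha ha S.c S.c S.r S.r S.π_q S.π_q
  haveI hP2 : ∀ i, IsAffine (P2.obj i).left := fun i => isAffine_pullback (a i) (a i)
  haveI : ∀ i, CompactSpace ↥(P2.obj i).left := fun i => inferInstance
  haveI : ∀ i, QuasiSeparatedSpace ↥(P2.obj i).left := fun i => inferInstance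
  haveI : ∀ (i j : S.I) (m : i ⟶ j), IsAffineHom (P2.map m).left := fun i j m =>
    haveI := hP2 i; haveI := hP2 j; inferInstance
  obtain ⟨l2⟩ := nonempty_isLimit_pbCone a a ha ha S.c S.c S.r S.r S.π_q S.π_q (toSch X) S.isLimit S.isLimit
  let W2 := pullback S.r S.r
  let d : G.obj.obj (op W2) :=
    G.obj.map (pullback.fst S.r S.r).op g - G.obj.map (pullback.snd S.r S.r).op g
  have hd : p.hom.app (op W2) d = 0 := by
    simp only [d]
    rw [map_sub, nT, nT, hg, ← map_comp_apply, ← map_comp_apply, pullback.condition, sub_self]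
  obtain ⟨c, hc⟩ := (exists_of_app_eq_zero hS W2).2 d hd
  obtain ⟨i₁, z₁, hz₁⟩ := SectLim.exists_stage A P2 C2 l2 c
  -- the triple system
  let b3 : ∀ i, P2.obj i ⟶ (ε X).obj U := fun i => pullback.fst (a i) (a i) ≫ a i
  have hb3 : ∀ ⦃i j : S.I⦄ (m : i ⟶ j), P2.map m ≫ b3 j = b3 i := fun i j m => by
    show P2.map m ≫ pullback.fst (a j) (a j) ≫ a j = pullback.fst (a i) (a i) ≫ a i
    rw [← Category.assoc, pbSys_map_fst, Category.assoc, ha]
  let r2 : W2 ⟶ (ε X).obj U := pullback.fst S.r S.r ≫ S.r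
  have hr2 : ∀ i, C2.π.app i ≫ b3 i = r2 := fun i => by
    show C2.π.app i ≫ pullback.fst (a i) (a i) ≫ a i = pullback.fst S.r S.r ≫ S.r
    rw [← Category.assoc]
    erw [pbCone_fst a a ha ha S.c S.c S.r S.r S.π_q S.π_q i]
    rw [Category.assoc]
    exact congrArg (pullback.fst S.r S.r ≫ ·) (S.π_q i)
  let P3 := pbSys b3 a hb3 ha
  let C3 := pbCone b3 a hb3 ha C2 S.c r2 S.r hr2 S.π_q
  haveI hP3 : ∀ i, IsAffine (P3.obj i).left := fun i =>
    haveI := hP2 i; isAffine_pullback (b3 i) (a i)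
  haveI : ∀ i, CompactSpace ↥(P3.obj i).left := fun i => inferInstance
  haveI : ∀ i, QuasiSeparatedSpace ↥(P3.obj i).left := fun i => inferInstance
  haveI : ∀ (i j : S.I) (m : i ⟶ j), IsAffineHom (P3.map m).left := fun i j m =>
    haveI := hP3 i; haveI := hP3 j; inferInstance
  obtain ⟨l3⟩ := nonempty_isLimit_pbCone b3 a hb3 ha C2 S.c r2 S.r hr2 S.π_q (toSch X) l2 S.isLimit
  -- the pairs of maps
  have hA : ∀ {V : X.ProEt} (w₁ w₂ : V ⟶ S.c.pt) (i : S.I) (h : w₁ ≫ S.r = w₂ ≫ S.r)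
      (h' : (w₁ ≫ S.c.π.app i) ≫ a i = (w₂ ≫ S.c.π.app i) ≫ a i) (z : (shf A).obj.obj (op (P2.obj i))),
      (shf A).obj.map (C2.π.app i).op z = c →
      G.obj.map w₁.op g - G.obj.map w₂.op g =
        ι.hom.app (op V) ((shf A).obj.map (pullback.lift _ _ h').op z) := by
    intro V w₁ w₂ i h h' z hz
    have e : pullback.lift _ _ h' = pullback.lift w₁ w₂ h ≫ C2.π.app i := by
      apply pullback.hom_ext
      · rw [pullback.lift_fst, Category.assoc]
        erw [pbCone_fst a a ha ha S.c S.c S.r S.r S.π_q S.π_q i]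
        exact (pullback.lift_fst_assoc _ _ _ _).symm
      · rw [pullback.lift_snd, Category.assoc]
        erw [pbCone_snd a a ha ha S.c S.c S.r S.r S.π_q S.π_q i]
        exact (pullback.lift_snd_assoc _ _ _ _).symm
    rw [e, map_comp_apply, hz, nG, hc]
    simp only [d]
    rw [map_sub, ← map_comp_apply, ← map_comp_apply, pullback.lift_fst, pullback.lift_snd]
  -- the cocycle identity at a stage
  let Ω : ∀ (i : S.I) {V : X.ProEt} (y₁ y₂ : V ⟶ D.obj i), y₁ ≫ a i = y₂ ≫ a i →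
      (shf A).obj.obj (op (P2.obj i)) → (shf A).obj.obj (op V) :=
    fun i V y₁ y₂ h z => (shf A).obj.map (pullback.lift y₁ y₂ h).op z
  let t₁ : ∀ i, P3.obj i ⟶ D.obj i := fun i => pullback.fst (b3 i) (a i) ≫ pullback.fst (a i) (a i)
  let t₂ : ∀ i, P3.obj i ⟶ D.obj i := fun i => pullback.fst (b3 i) (a i) ≫ pullback.snd (a i) (a i)
  let t₃ : ∀ i, P3.obj i ⟶ D.obj i := fun i => pullback.snd (b3 i) (a i)
  have h12 : ∀ i, t₁ i ≫ a i = t₂ i ≫ a i := fun i => by simp [t₁, t₂, pullback.condition]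
  have h13 : ∀ i, t₁ i ≫ a i = t₃ i ≫ a i := fun i => by
    simp only [t₁, t₃, Category.assoc]
    exact pullback.condition
  have h23 : ∀ i, t₂ i ≫ a i = t₃ i ≫ a i := fun i => (h12 i).symm.trans (h13 i)
  let δ : ∀ i, (shf A).obj.obj (op (P2.obj i)) → (shf A).obj.obj (op (P3.obj i)) := fun i z =>
    Ω i _ _ (h12 i) z + Ω i _ _ (h23 i) z - Ω i _ _ (h13 i) z
  have hΩ : ∀ (i : S.I) {V V' : X.ProEt} (m : V' ⟶ V) (y₁ y₂ : V ⟶ D.obj i) (h : y₁ ≫ a i = y₂ ≫ a i) z,
      (shf A).obj.map m.op (Ω i y₁ y₂ h z) =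
        Ω i (m ≫ y₁) (m ≫ y₂) (by rw [Category.assoc, Category.assoc, h]) z := by
    intro i V V' m y₁ y₂ h z
    simp only [Ω]
    rw [← map_comp_apply]
    refine congrArg (fun f : V' ⟶ P2.obj i => (shf A).obj.map f.op z) ?_
    apply pullback.hom_ext <;> simp [pullback.lift_fst, pullback.lift_snd]
  have hδ0 : (shf A).obj.map (C3.π.app i₁).op (δ i₁ z₁) = 0 := by
    refine (exists_of_app_eq_zero hS C3.pt).1 (Eq.trans ?_ (map_zero _).symm)
    simp only [δ]
    rw [map_sub, map_add, map_sub, map_add, hΩ, hΩ, hΩ]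
    let u₁ := pullback.fst r2 S.r ≫ pullback.fst S.r S.r
    let u₂ := pullback.fst r2 S.r ≫ pullback.snd S.r S.r
    let u₃ := pullback.snd r2 S.r
    have e1 : C3.π.app i₁ ≫ t₁ i₁ = u₁ ≫ S.c.π.app i₁ := by
      simp only [t₁, u₁, ← Category.assoc]
      erw [pbCone_fst b3 a hb3 ha C2 S.c r2 S.r hr2 S.π_q i₁]
      rw [Category.assoc]
      erw [pbCone_fst a a ha ha S.c S.c S.r S.r S.π_q S.π_q i₁]
      exact (Category.assoc _ _ _).symm
    have e2 : C3.π.app i₁ ≫ t₂ i₁ = u₂ ≫ S.c.π.app i₁ := by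
      simp only [t₂, u₂, ← Category.assoc]
      erw [pbCone_fst b3 a hb3 ha C2 S.c r2 S.r hr2 S.π_q i₁]
      rw [Category.assoc]
      erw [pbCone_snd a a ha ha S.c S.c S.r S.r S.π_q S.π_q i₁]
      exact (Category.assoc _ _ _).symm
    have e3 : C3.π.app i₁ ≫ t₃ i₁ = u₃ ≫ S.c.π.app i₁ :=
      pbCone_snd b3 a hb3 ha C2 S.c r2 S.r hr2 S.π_q i₁
    have k12 : u₁ ≫ S.r = u₂ ≫ S.r := by simp [u₁, u₂, pullback.condition]
    have k13 : u₁ ≫ S.r = u₃ ≫ S.r := by
      simp only [u₁, u₃, Category.assoc]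
      exact pullback.condition
    simp only [Ω]
    simp only [e1, e2, e3]
    rw [← hA u₁ u₂ i₁ k12 _ z₁ hz₁, ← hA u₂ u₃ i₁ (k12.symm.trans k13) _ z₁ hz₁,
      ← hA u₁ u₃ i₁ k13 _ z₁ hz₁]
    abel
  obtain ⟨k, m, hk⟩ := SectLim.exists_eq_zero A P3 C3 l3 (δ i₁ z₁) hδ0
  let z := (shf A).obj.map (P2.map m).op z₁
  have hz : (shf A).obj.map (C2.π.app k).op z = c := by
    simp only [z]
    rw [← map_comp_apply, C2.w m, hz₁]
  have hcoc : δ k z = 0 := by
    rw [← hk]
    simp only [δ, z]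
    rw [map_sub, map_add, hΩ, hΩ, hΩ]
    simp only [Ω]
    rw [← map_comp_apply, ← map_comp_apply, ← map_comp_apply]
    have f1 : P3.map m ≫ t₁ i₁ = t₁ k ≫ D.map m := by
      simp only [t₁, ← Category.assoc]
      erw [pbSys_map_fst b3 a hb3 ha m]
      rw [Category.assoc, Category.assoc]
      exact congrArg (pullback.fst (b3 k) (a k) ≫ ·) (pbSys_map_fst a a ha ha m)
    have f2 : P3.map m ≫ t₂ i₁ = t₂ k ≫ D.map m := by
      simp only [t₂, ← Category.assoc]
      erw [pbSys_map_fst b3 a hb3 ha m]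
      rw [Category.assoc, Category.assoc]
      exact congrArg (pullback.fst (b3 k) (a k) ≫ ·) (pbSys_map_snd a a ha ha m)
    have f3 : P3.map m ≫ t₃ i₁ = t₃ k ≫ D.map m := pbSys_map_snd b3 a hb3 ha m
    refine congrArg₂ (· - ·) (congrArg₂ (· + ·) ?_ ?_) ?_ <;>
      refine congrArg (fun f : P3.obj k ⟶ P2.obj i₁ => (shf A).obj.map f.op z₁) ?_ <;>
      apply pullback.hom_ext <;>
      simp [pullback.lift_fst, pullback.lift_snd, pullback.lift_fst_assoc, pullback.lift_snd_assoc, f1, f2, f3,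
        P2]
  have hB : ∀ {V : X.ProEt} (y₁ y₂ y₃ : V ⟶ D.obj k) (k12 : y₁ ≫ a k = y₂ ≫ a k)
      (k23 : y₂ ≫ a k = y₃ ≫ a k),
      Ω k y₁ y₂ k12 z + Ω k y₂ y₃ k23 z = Ω k y₁ y₃ (k12.trans k23) z := by
    intro V y₁ y₂ y₃ k12 k23
    have hw : pullback.lift y₁ y₂ k12 ≫ b3 k = y₃ ≫ a k := by
      simp only [b3, pullback.lift_fst_assoc]
      exact k12.trans k23
    have h := congrArg ((shf A).obj.map (pullback.lift (pullback.lift y₁ y₂ k12) y₃ hw).op) hcoc
    rw [map_zero] at h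
    simp only [δ] at h
    rw [map_sub, map_add, hΩ, hΩ, hΩ] at h
    simp only [t₁, t₂, t₃, pullback.lift_fst_assoc, pullback.lift_fst, pullback.lift_snd] at h
    exact sub_eq_zero.1 h
  -- descent to the stage
  haveI : IsAffine (D.obj k).left := hD k
  let M := pullback S.r (a k)
  haveI : IsAffine M.left := isAffine_pullback S.r (a k)
  haveI : Surjective (pullback.snd S.r (a k)).left := surjective_pullback_snd S.r (a k)
  have hM : (pullback.fst S.r (a k) ≫ S.c.π.app k) ≫ a k = pullback.snd S.r (a k) ≫ a k := by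
    rw [Category.assoc, S.π_q k]
    exact pullback.condition
  let g' : G.obj.obj (op M) :=
    G.obj.map (pullback.fst S.r (a k)).op g - ι.hom.app (op M) (Ω k _ _ hM z)
  obtain ⟨g'', hg'', -⟩ := existsUnique_glue G (pullback.snd S.r (a k)) g' fun {V} m₁ m₂ hm => by
    simp only [g']
    rw [map_sub, map_sub, ← map_comp_apply, ← map_comp_apply, ← nG, ← nG, hΩ, hΩ]
    let w₁ := m₁ ≫ pullback.fst S.r (a k)
    let w₂ := m₂ ≫ pullback.fst S.r (a k)
    have hw : w₁ ≫ S.r = w₂ ≫ S.r := by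
      simp only [w₁, w₂, Category.assoc, pullback.condition]
      rw [← Category.assoc, ← Category.assoc, hm]
    have hw' : (w₁ ≫ S.c.π.app k) ≫ a k = (w₂ ≫ S.c.π.app k) ≫ a k := by
      rw [Category.assoc w₁, Category.assoc w₂, S.π_q k]
      exact hw
    have hAB := hA w₁ w₂ k hw hw' z hz
    have hy : (w₂ ≫ S.c.π.app k) ≫ a k = (m₂ ≫ pullback.snd S.r (a k)) ≫ a k := by
      simp only [w₂, Category.assoc]
      exact congrArg (m₂ ≫ ·) (by rw [← Category.assoc]; exact hM)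
    have hB' := hB (w₁ ≫ S.c.π.app k) (w₂ ≫ S.c.π.app k) (m₂ ≫ pullback.snd S.r (a k)) hw' hy
    simp only [w₁, w₂, Category.assoc] at hAB hB' ⊢
    simp only [hm]
    rw [sub_eq_sub_iff_sub_eq_sub, hAB, ← map_sub, ← hB', add_sub_cancel_right]
  refine ⟨S.Y.obj k, S.q k, ?_, g'', ?_⟩
  · have e : (S.c.π.app k).left ≫ (S.q k).left = S.r.left :=
      congrArg (fun f : S.c.pt ⟶ (ε X).obj U => f.left) (S.π_q k)
    have : Surjective ((S.c.π.app k).left ≫ (S.q k).left) := e.symm ▸ S.surj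
    exact Surjective.of_comp (S.c.π.app k).left (S.q k).left
  · refine eq_of_map_eq T (pullback.snd S.r (a k)) ?_
    refine (nT _ g'').symm.trans ((congrArg (p.hom.app (op M)) hg'').trans ?_)
    simp only [g']
    rw [map_sub, nT, hg, ← map_comp_apply, ← map_comp_apply, pullback.condition]
    have h0 : ∀ (V : X.ProEt) (x : (shf A).obj.obj (op V)), p.hom.app (op V) (ι.hom.app (op V) x) = 0 :=
      fun V x => ConcreteCategory.congr_hom (congrArg (fun φ : shf A ⟶ T => φ.hom.app (op V)) w) x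
    rw [h0, sub_zero]

end Groth.Agent.ProEtS.ExtLift
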