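import Groth.Agent.ProEtS.Covers

/-!
# W-contractible covers of affine étale objects as limits of affine étale objects
-/

set_option autoImplicit false

universe u

open CategoryTheory CategoryTheory.Limits AlgebraicGeometry Opposite

noncomputable section

namespace Groth.Agent.ProEtS.ExtLift

variable {X : Scheme.{u}}

/-- The functor to schemes. -/
abbrev toSch (X : Scheme.{u}) : X.ProEt ⥤ Scheme.{u} := Scheme.ProEt.forget X ⋙ Over.forget X

/-- An affine w-contractible cover of `U` presented as a limit of affine étale objects over `U`. -/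
structure System (U : X.Etale) where
  I : Type u
  [cat : SmallCategory I]
  [cofiltered : IsCofiltered I]
  Y : I ⥤ X.Etale
  q : ∀ i, Y.obj i ⟶ U
  q_nat : ∀ ⦃i j : I⦄ (m : i ⟶ j), Y.map m ≫ q j = q i
  isAffine_Y : ∀ i, IsAffine (Y.obj i).left
  c : Cone (Y ⋙ _root_.ProEtS.eps X)
  r : c.pt ⟶ (_root_.ProEtS.eps X).obj U
  π_q : ∀ i, c.π.app i ≫ (_root_.ProEtS.eps X).map (q i) = r
  isLimit : IsLimit ((toSch X).mapCone c)
  isAffine_W : IsAffine c.pt.left
  wc : EtPBC.IsWContractible ↥Γ(c.pt.left, ⊤)
  surj : Surjective r.left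

attribute [instance] System.cat System.cofiltered

set_option backward.isDefEq.respectTransparency.types false in
theorem nonempty_system (U : X.Etale) [IsAffine U.left] : Nonempty (System U) := by
  let A := ↥Γ(U.left, ⊤)
  obtain ⟨D, _, _, hff, hfac, hwl, hed, hsh, -⟩ := Groth.Agent.ProEtW.Contractible.exists_wContractible A
  have hwc : EtPBC.IsWContractible D := Groth.Agent.ProEtW.Contractible.isWContractible hwl hed hsh
  obtain ⟨J, _, _, Dg, cc, hcc, hQ, ⟨e⟩⟩ := Groth.Agent.IndAlg.Etale.isInd_of_fac hfac
  let s : Spec (CommRingCat.of A) ⟶ X := U.left.isoSpec.inv ≫ U.hom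
  have : Etale U.hom := U.prop
  have : Etale s := inferInstanceAs (Etale (U.left.isoSpec.inv ≫ U.hom))
  have hE : ∀ j : Jᵒᵖ, Etale (Spec.map (Dg.obj j.unop).hom) := fun j => by
    let := (Dg.obj j.unop).hom.hom.toAlgebra
    exact (HasRingHomProperty.Spec_iff (P := @Etale)).2 (RingHom.etale_algebraMap.2 (hQ j.unop))
  let q₀ : ∀ j : Jᵒᵖ, Spec (Dg.obj j.unop).right ⟶ U.left := fun j =>
    Spec.map (Dg.obj j.unop).hom ≫ U.left.isoSpec.inv
  let Yo : Jᵒᵖ → X.Etale := fun j =>
    have := hE j
    Scheme.Etale.mk (Spec.map (Dg.obj j.unop).hom ≫ s)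
  have hw : ∀ {i j : Jᵒᵖ} (m : i ⟶ j),
      Spec.map (Dg.map m.unop).right ≫ Spec.map (Dg.obj j.unop).hom = Spec.map (Dg.obj i.unop).hom := by
    intro i j m
    rw [← Spec.map_comp, Under.w]
  let Y : Jᵒᵖ ⥤ X.Etale :=
    { obj := Yo
      map := fun {i j} m => MorphismProperty.Over.homMk (Spec.map (Dg.map m.unop).right)
        ((Category.assoc _ _ _).symm.trans (congrArg (· ≫ s) (hw m)) :) trivial
      map_id := fun j => MorphismProperty.Over.Hom.ext
        ((congrArg (fun g => Spec.map (CommaMorphism.right g)) (Dg.map_id _)).trans (Spec.map_id _) :)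
      map_comp := fun {i j k} m m' => MorphismProperty.Over.Hom.ext
        ((congrArg (fun g => Spec.map (CommaMorphism.right g)) (Dg.map_comp _ _)).trans
          (Spec.map_comp _ _) :) }
  let cW : Cone (Dg.op ⋙ (Under.forget _).op ⋙ Scheme.Spec) :=
    Scheme.Spec.mapCone ((Under.forget _).mapCocone cc).op
  have hcW : IsLimit cW :=
    isLimitOfPreserves Scheme.Spec (isColimitOfPreserves (Under.forget _) hcc).op
  have : Algebra.WeaklyEtale A D := Groth.Agent.IndAlg.Etale.weaklyEtale hfac
  have := (Affine.weaklyEtale_SpecMap_iff A D).2 this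
  let i₀ := (Under.forget _).mapIso e
  have hptm : Spec.map cc.pt.hom = Spec.map e.inv.right ≫ Spec.map (CommRingCat.ofHom (algebraMap A D)) := by
    rw [← Spec.map_comp]
    exact congrArg Spec.map (Under.w e.inv).symm
  have hiso : IsIso e.inv.right := inferInstanceAs (IsIso i₀.inv)
  have hwE : WeaklyEtale (Spec.map cc.pt.hom) := by rw [hptm]; infer_instance
  have : WeaklyEtale s := inferInstance
  let W : X.ProEt := Scheme.ProEt.mk (Spec.map cc.pt.hom ≫ s)
  let r : W ⟶ (_root_.ProEtS.eps X).obj U :=
    MorphismProperty.Over.homMk (Spec.map cc.pt.hom ≫ U.left.isoSpec.inv) (Category.assoc _ _ _) trivial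
  have hπw : ∀ j : Jᵒᵖ,
      Spec.map (cc.ι.app j.unop).right ≫ Spec.map (Dg.obj j.unop).hom = Spec.map cc.pt.hom := fun j => by
    rw [← Spec.map_comp, Under.w (cc.ι.app j.unop)]
    rfl
  let c : Cone (Y ⋙ _root_.ProEtS.eps X) :=
    { pt := W
      π :=
        { app := fun j => MorphismProperty.Over.homMk (Spec.map (cc.ι.app j.unop).right)
            ((Category.assoc _ _ _).symm.trans (congrArg (· ≫ s) (hπw j)) :) trivial
          naturality := fun i j m => MorphismProperty.Over.Hom.ext
            ((Category.id_comp _).trans ((congrArg (fun g => Spec.map (CommaMorphism.right g))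
              (cc.w m.unop).symm).trans (Spec.map_comp _ _)) :) } }
  refine ⟨{ I := Jᵒᵖ
            Y := Y
            q := fun j => MorphismProperty.Over.homMk (q₀ j) (Category.assoc _ _ _) trivial
            q_nat := fun i j m => MorphismProperty.Over.Hom.ext
              ((Category.assoc _ _ _).symm.trans (congrArg (· ≫ U.left.isoSpec.inv) (hw m)) :)
            isAffine_Y := fun j => inferInstanceAs (IsAffine (Spec _))
            c := c
            r := r
            π_q := fun j => MorphismProperty.Over.Hom.ext
              ((Category.assoc _ _ _).symm.trans (congrArg (· ≫ U.left.isoSpec.inv) (hπw j)) :)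
            isLimit :=
              { lift := fun t => hcW.lift ⟨t.pt,
                  { app := fun j => t.π.app j, naturality := fun i j m => t.π.naturality m }⟩
                fac := fun t j => hcW.fac _ j
                uniq := fun t m hm => hcW.uniq _ m hm }
            isAffine_W := inferInstanceAs (IsAffine (Spec _))
            wc := Covers.isWContractible_of_ringEquiv
              (i₀.commRingCatIsoToRingEquiv.symm.trans
                (Scheme.ΓSpecIso cc.pt.right).symm.commRingCatIsoToRingEquiv) hwc
            surj := ?_ }⟩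
  have : Surjective (Spec.map (CommRingCat.ofHom (algebraMap A D))) :=
    ⟨PrimeSpectrum.comap_surjective_of_faithfullyFlat (A := A) (B := D)⟩
  show Surjective (Spec.map cc.pt.hom ≫ U.left.isoSpec.inv)
  rw [hptm]
  infer_instance

end Groth.Agent.ProEtS.ExtLift
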